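import Groth.Agent.Unr55.SmoothDesc
import Groth.Agent.SGA3a.NilFinite
import Mathlib.AlgebraicGeometry.Morphisms.Smooth
import Mathlib.AlgebraicGeometry.Morphisms.Flat
import Mathlib.AlgebraicGeometry.Pullbacks
import Mathlib.RingTheory.Spectrum.Prime.Topology
import Mathlib.RingTheory.Artinian.Ring

/-!
Rational points of the fibre of a flat scheme over an Artinian local ring with smooth fibre lift to sections.
-/

set_option autoImplicit false
set_option backward.isDefEq.respectTransparency false
set_option backward.isDefEq.respectTransparency.types false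
set_option linter.style.haveILetI false

universe u

noncomputable section

open CategoryTheory CategoryTheory.Limits AlgebraicGeometry TopologicalSpace TensorProduct

namespace Groth.Agent.PtDefo97

variable {C k : Type u} [CommRing C] [IsLocalRing C] [IsArtinianRing C] [Field k] [Algebra C k]

/-- A flat algebra with smooth fibre over an Artinian local ring is smooth. -/
theorem smooth_of_flat_of_fibre (hk : Function.Surjective (algebraMap C k)) {R : Type u} [CommRing R] [Algebra C R]
    [Module.Flat C R] [hs : Algebra.Smooth k (k ⊗[C] R)] : Algebra.Smooth C R := by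
  classical
  have hker : RingHom.ker (algebraMap C k) = IsLocalRing.maximalIdeal C :=
    IsLocalRing.eq_maximalIdeal (RingHom.ker_isMaximal_of_surjective _ hk)
  let N := (IsLocalRing.maximalIdeal C).map (algebraMap C R)
  let θk : k →ₐ[C] R ⧸ N :=
    { __ := RingHom.liftOfSurjective (algebraMap C k) hk ⟨algebraMap C (R ⧸ N), fun a ha => by
        rw [hker] at ha
        rw [RingHom.mem_ker, IsScalarTower.algebraMap_apply C R (R ⧸ N), Ideal.Quotient.algebraMap_eq,
          Ideal.Quotient.eq_zero_iff_mem]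
        exact Ideal.mem_map_of_mem _ ha⟩
      commutes' := fun a => RingHom.liftOfRightInverse_comp_apply _ _ _ _ _ }
  let θ : k ⊗[C] R →ₐ[C] R ⧸ N := Algebra.TensorProduct.lift θk (Ideal.Quotient.mkₐ C N) fun _ _ => Commute.all _ _
  have hθ : ∀ r : R, θ (1 ⊗ₜ r) = Ideal.Quotient.mk N r := fun r => by
    simp [θ]
  have hsurj : ∀ z : k ⊗[C] R, ∃ r, (1 : k) ⊗ₜ[C] r = z := fun z => by
    induction z with
    | zero => exact ⟨0, tmul_zero _ _⟩
    | tmul a r =>
      obtain ⟨c, rfl⟩ := hk a
      exact ⟨c • r, by rw [← smul_tmul, ← Algebra.algebraMap_eq_smul_one]⟩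
    | add y z hy hz =>
      obtain ⟨r, hr⟩ := hy
      obtain ⟨r', hr'⟩ := hz
      exact ⟨r + r', by rw [tmul_add, hr, hr']⟩
  haveI : Algebra.FiniteType C k := Algebra.FiniteType.of_surjective (Algebra.ofId C k) hk
  haveI : Algebra.FiniteType C (k ⊗[C] R) :=
    Algebra.FiniteType.trans (R := C) (S := k) inferInstance inferInstance
  haveI : Algebra.FiniteType C R := by
    obtain ⟨s, hs'⟩ := (inferInstance : Algebra.FiniteType C (k ⊗[C] R)).out
    choose r hr using hsurj
    let P := Algebra.adjoin C (↑(s.image r) : Set R)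
    have hP : P.map (Algebra.TensorProduct.includeRight : R →ₐ[C] k ⊗[C] R) = ⊤ := by
      rw [AlgHom.map_adjoin, eq_top_iff, ← hs']
      refine Algebra.adjoin_mono fun x hx => ⟨r x, by simp only [Finset.coe_image]; exact ⟨x, hx, rfl⟩, hr x⟩
    refine ⟨s.image r, ?_⟩
    refine (Algebra.toSubmodule_eq_top (S := P)).1 (SGA3a.eq_top_of_le_sup_smul
      (IsArtinianRing.isNilpotent_jacobson_bot (R := C)) fun x _ => ?_)
    obtain ⟨p, hp, hpx⟩ : Algebra.TensorProduct.includeRight x ∈
        P.map (Algebra.TensorProduct.includeRight : R →ₐ[C] k ⊗[C] R) := by rw [hP]; trivial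
    refine Submodule.mem_sup.2 ⟨p, hp, x - p, ?_, add_sub_cancel p x⟩
    rw [IsLocalRing.jacobson_eq_maximalIdeal ⊥ bot_ne_top, Ideal.smul_top_eq_map]
    refine Ideal.Quotient.eq.1 ?_
    rw [← hθ, ← hθ]
    exact congrArg θ hpx.symm
  haveI : Algebra.FinitePresentation C R := Algebra.FinitePresentation.of_finiteType.1 inferInstance
  refine ⟨Algebra.smoothLocus_eq_univ_iff.1 (Set.eq_univ_of_forall fun q => ?_), inferInstance⟩
  let p : PrimeSpectrum C := PrimeSpectrum.comap (algebraMap C R) q
  haveI : q.asIdeal.LiesOver p.asIdeal := ⟨rfl⟩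
  have hp : p.asIdeal = IsLocalRing.maximalIdeal C :=
    IsLocalRing.eq_maximalIdeal (IsArtinianRing.isMaximal_of_isPrime p.asIdeal)
  let sub : {g : C →+* p.asIdeal.ResidueField // RingHom.ker (algebraMap C k) ≤ RingHom.ker g} :=
    ⟨algebraMap C p.asIdeal.ResidueField, fun a ha => by
      rw [hker, ← hp] at ha
      rw [RingHom.mem_ker]
      exact Ideal.algebraMap_residueField_eq_zero.2 ha⟩
  letI : Algebra k p.asIdeal.ResidueField := (RingHom.liftOfSurjective (algebraMap C k) hk sub).toAlgebra
  haveI : IsScalarTower C k p.asIdeal.ResidueField := IsScalarTower.of_algebraMap_eq fun a => by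
    rw [RingHom.algebraMap_toAlgebra]
    exact (RingHom.liftOfRightInverse_comp_apply (algebraMap C k) _ (Function.rightInverse_surjInv hk) sub a).symm
  haveI : Algebra.Smooth p.asIdeal.ResidueField (p.asIdeal.Fiber R) :=
    Algebra.Smooth.of_equiv (A := p.asIdeal.ResidueField ⊗[k] (k ⊗[C] R))
      (Algebra.TensorProduct.cancelBaseChange C k p.asIdeal.ResidueField p.asIdeal.ResidueField R)
  let pq : PrimeSpectrum.comap (algebraMap C R) ⁻¹' {p} := ⟨q, rfl⟩
  let h := PrimeSpectrum.preimageHomeomorphFiber C R p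
  have hQ : (h pq).asIdeal.comap Algebra.TensorProduct.includeRight.toRingHom = q.asIdeal :=
    congrArg (fun t : PrimeSpectrum.comap (algebraMap C R) ⁻¹' {p} => t.1.asIdeal) (h.symm_apply_apply pq)
  haveI : Algebra.IsSmoothAt p.asIdeal.ResidueField (h pq).asIdeal := by
    haveI : Algebra.FormallySmooth (p.asIdeal.Fiber R) (Localization.AtPrime (h pq).asIdeal) :=
      Algebra.FormallySmooth.of_isLocalization (h pq).asIdeal.primeCompl
    exact Algebra.FormallySmooth.comp _ (p.asIdeal.Fiber R) _
  haveI : Module.Flat C (Localization.AtPrime q.asIdeal) :=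
    haveI : Module.Flat R (Localization.AtPrime q.asIdeal) := IsLocalization.flat _ q.asIdeal.primeCompl
    Module.Flat.trans C R _
  exact Unr55.isSmoothAt_of_flat_of_fibre p.asIdeal q.asIdeal (h pq).asIdeal hQ

/-- Rational points of the closed fibre lift to sections. -/
theorem exists_section (hk : Function.Surjective (algebraMap C k)) {X X' : Scheme.{u}} {i : X ⟶ X'}
    {f₀ : X ⟶ Spec (CommRingCat.of k)} {g : X' ⟶ Spec (CommRingCat.of C)} [Flat g] [Smooth f₀]
    (hsq : IsPullback i f₀ g (Spec.map (CommRingCat.ofHom (algebraMap C k))))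
    (P : Spec (CommRingCat.of k) ⟶ X) (hP : P ≫ f₀ = 𝟙 _) :
    ∃ σ : Spec (CommRingCat.of C) ⟶ X', σ ≫ g = 𝟙 _ ∧
      P ≫ i = Spec.map (CommRingCat.ofHom (algebraMap C k)) ≫ σ := by
  let pk : Spec (CommRingCat.of k) := IsLocalRing.closedPoint k
  obtain ⟨U, hU, hxU, -⟩ := exists_isAffineOpen_mem_and_subset (U := (⊤ : X'.Opens)) (x := (P ≫ i) pk) trivial
  let R := Γ(X', U)
  let φ : CommRingCat.of C ⟶ R := Spec.preimage (hU.fromSpec ≫ g)
  have hφ : Spec.map φ = hU.fromSpec ≫ g := Spec.map_preimage _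
  letI : Algebra C R := φ.hom.toAlgebra
  haveI : Flat (Spec.map φ) := hφ ▸ inferInstance
  haveI : Module.Flat C R := RingHom.flat_algebraMap_iff.1 ((HasRingHomProperty.Spec_iff (P := @Flat)).1 ‹_›)
  have big : IsPullback (pullback.fst hU.fromSpec i) (pullback.snd hU.fromSpec i ≫ f₀) (Spec.map φ)
      (Spec.map (CommRingCat.ofHom (algebraMap C k))) := by
    rw [hφ]
    exact (IsPullback.of_hasPullback hU.fromSpec i).paste_vert hsq
  haveI : IsOpenImmersion (pullback.snd hU.fromSpec i) := inferInstance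
  haveI : Smooth (pullback.fst (Spec.map (CommRingCat.ofHom (algebraMap C k))) (Spec.map φ)) := by
    rw [← big.flip.isoPullback_inv_fst]
    infer_instance
  have hs : Smooth (Spec.map (CommRingCat.ofHom (algebraMap k (k ⊗[C] R)))) := by
    rw [← pullbackSpecIso_inv_fst' C k R]
    change Smooth ((pullbackSpecIso C k R).inv ≫ pullback.fst (Spec.map (CommRingCat.ofHom (algebraMap C k))) (Spec.map φ))
    infer_instance
  haveI : Algebra.Smooth k (k ⊗[C] R) := RingHom.smooth_algebraMap.1 ((HasRingHomProperty.Spec_iff (P := @Smooth)).1 hs)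
  haveI := smooth_of_flat_of_fibre (R := R) hk
  have hr : Set.range (P ≫ i) ⊆ Set.range hU.fromSpec := by
    rintro _ ⟨z, rfl⟩
    rw [hU.range_fromSpec, Subsingleton.elim z pk]
    exact hxU
  let ψ : R ⟶ CommRingCat.of k := Spec.preimage (IsOpenImmersion.lift hU.fromSpec (P ≫ i) hr)
  have hψ : Spec.map ψ ≫ hU.fromSpec = P ≫ i := by
    rw [Spec.map_preimage, IsOpenImmersion.lift_fac]
  have hφψ : φ ≫ ψ = CommRingCat.ofHom (algebraMap C k) := Spec.map_injective (by
    rw [Spec.map_comp, hφ, reassoc_of% hψ, hsq.w, reassoc_of% hP])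
  let ψ' : R →ₐ[C] k := { __ := ψ.hom, commutes' := fun a => congr($hφψ a) }
  let l := Algebra.FormallySmooth.liftOfSurjective ψ' (Algebra.ofId C k) hk (by
    have hker : RingHom.ker ((Algebra.ofId C k : C →ₐ[C] k) : C →+* k) = IsLocalRing.maximalIdeal C :=
      IsLocalRing.eq_maximalIdeal (RingHom.ker_isMaximal_of_surjective _ hk)
    rw [hker, ← IsLocalRing.jacobson_eq_maximalIdeal (⊥ : Ideal C) bot_ne_top]
    exact IsArtinianRing.isNilpotent_jacobson_bot (R := C))
  refine ⟨Spec.map (CommRingCat.ofHom l.toRingHom) ≫ hU.fromSpec, ?_, ?_⟩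
  · rw [Category.assoc, ← hφ, ← Spec.map_comp, ← Spec.map_id]
    congr 1
    refine CommRingCat.hom_ext (RingHom.ext fun a => ?_)
    exact (l.commutes a).trans (by simp)
  · rw [← hψ, ← Category.assoc, ← Spec.map_comp]
    congr 2
    refine CommRingCat.hom_ext (RingHom.ext fun a => ?_)
    exact (Algebra.FormallySmooth.liftOfSurjective_apply ψ' (Algebra.ofId C k) hk _ a).symm

end Groth.Agent.PtDefo97
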